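import Groth.Agent.GeomUnib.Radical
import Mathlib.RingTheory.Flat.EquationalCriterion
import Mathlib.RingTheory.Ideal.GoingDown
import Mathlib.RingTheory.Spectrum.Prime.Topology

/-!
# Two disjoint opens covering the complement of the closed fibre do not meet at a point of it
-/

set_option autoImplicit false

universe u

open PrimeSpectrum TensorProduct

namespace Groth.Agent.ConnCompl

/-- Flat modules inherit the regularity of a pair. -/
theorem exists_of_flat {C R : Type u} [CommRing C] [CommRing R] [Algebra C R] [Module.Flat C R]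
    {a b : C} (h : ∀ x y : C, b * x = a * y → ∃ z, x = a * z) {u v : R}
    (huv : algebraMap C R b * u = algebraMap C R a * v) :
    ∃ r, u = algebraMap C R a * r := by
  classical
  have h0 : ∑ i, (![b, -a] : Fin 2 → C) i • (![u, v] : Fin 2 → R) i = 0 := by
    simp [Fin.sum_univ_two, Algebra.smul_def, huv]
  obtain ⟨k, c, z, hxz, hc⟩ := Module.Flat.isTrivialRelation_of_sum_smul_eq_zero (R := C) (M := R) h0
  have hd : ∀ j, ∃ d, c 0 j = a * d := fun j => h (c 0 j) (c 1 j) (by
    have := hc j
    simp [Fin.sum_univ_two] at this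
    linear_combination this)
  choose d hd using hd
  refine ⟨∑ j, d j • z j, ?_⟩
  have := hxz 0
  simp only [Matrix.cons_val_zero] at this
  rw [this, Finset.mul_sum]
  refine Finset.sum_congr rfl fun j _ => ?_
  rw [hd j, Algebra.smul_def, Algebra.smul_def, map_mul, mul_assoc]

variable {A R₀ R A' : Type u} [CommRing A] [IsLocalRing A] [IsDomain A] [CommRing R₀] [Algebra A R₀]
  [Module.Flat A R₀] [CommRing A'] [IsDomain A'] [Algebra A A'] [CommRing R] [Algebra A' R]
  [Module.Flat A' R]

open IsLocalRing in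
/-- The idempotent argument on the base change to the normalization. -/
theorem exists_open_disjoint (hrad : GeomUnib.RadicialAt A' (maximalIdeal A))
    (hA' : Function.Injective (algebraMap A A'))
    (j : R₀ →+* R) (hj : ∀ a : A, j (algebraMap A R₀ a) = algebraMap A' R (algebraMap A A' a))
    (hjclosed : IsClosedMap (comap j)) (hjsurj : Function.Surjective (comap j))
    (hext : ∀ (L : Type u) [Field L] (f g : R →+* L), f.comp j = g.comp j →
      f.comp (algebraMap A' R) = g.comp (algebraMap A' R) → f = g)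
    {a b : A} (ha : a ∈ maximalIdeal A) (hb : b ∈ maximalIdeal A) (ha0 : a ≠ 0) (hb0 : b ≠ 0)
    (hreg : ∀ (n k : ℕ) (x y : A'), algebraMap A A' b ^ k * x = algebraMap A A' a ^ n * y →
      ∃ z, x = algebraMap A A' a ^ n * z)
    (W₁ W₂ : Set (PrimeSpectrum R₀)) (h₁ : IsOpen W₁) (h₂ : IsOpen W₂) (hd : Disjoint W₁ W₂)
    (hcov : ∀ p : PrimeSpectrum R₀, p.asIdeal.comap (algebraMap A R₀) ≠ maximalIdeal A → p ∈ W₁ ∪ W₂)
    (x : PrimeSpectrum R₀) (hx : x.asIdeal.comap (algebraMap A R₀) = maximalIdeal A) :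
    ∃ N : Set (PrimeSpectrum R₀), IsOpen N ∧ x ∈ N ∧ (Disjoint N W₁ ∨ Disjoint N W₂) := by
  classical
  let g := algebraMap A' R
  let α := g (algebraMap A A' a)
  let β := g (algebraMap A A' b)
  have hne : ∀ c : A, c ≠ 0 → algebraMap A A' c ≠ 0 := fun c hc => (map_ne_zero_iff _ hA').2 hc
  have hreg' : ∀ c : A, c ≠ 0 → ∀ r : R, g (algebraMap A A' c) * r = 0 → r = 0 := fun c hc r hr => by
    have := (IsSMulRegular.of_flat (S := R) (R := A') (x := algebraMap A A' c)
      (fun p q h => mul_left_cancel₀ (hne c hc) (by simpa using h)))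
    exact this (by simpa [smul_eq_mul] using hr)
  -- the clopen on a standard open inside the complement of the closed fibre
  have hidem : ∀ c : A, c ∈ maximalIdeal A → ∃ e : Localization.Away (g (algebraMap A A' c)),
      IsIdempotentElem e ∧
      (comap ((algebraMap R (Localization.Away (g (algebraMap A A' c)))).comp j)) ⁻¹' W₁ = basicOpen e := by
    intro c hc
    let S := Localization.Away (g (algebraMap A A' c))
    let φ := (algebraMap R S).comp j
    refine exists_idempotent_basicOpen_eq_of_isClopen ⟨?_, h₁.preimage (continuous_comap φ)⟩ |>.imp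
      fun e he => he
    have : (comap φ) ⁻¹' W₁ = ((comap φ) ⁻¹' W₂)ᶜ := by
      ext P
      simp only [Set.mem_preimage, Set.mem_compl_iff]
      refine ⟨fun h₁' h₂' => hd.le_bot ⟨h₁', h₂'⟩, fun h₂' => (hcov _ fun he => ?_).resolve_right h₂'⟩
      have hcP : φ (algebraMap A R₀ c) ∈ P.asIdeal := by
        have : c ∈ ((comap φ P).asIdeal.comap (algebraMap A R₀)) := he.ge hc
        exact this
      refine P.isPrime.ne_top (Ideal.eq_top_of_isUnit_mem _ hcP ?_)
      simp only [φ, RingHom.comp_apply, hj]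
      exact IsLocalization.Away.algebraMap_isUnit _
    rw [this]
    exact (h₂.preimage (continuous_comap φ)).isClosed_compl
  obtain ⟨ea, hea, hWa⟩ := hidem a ha
  obtain ⟨eb, heb, hWb⟩ := hidem b hb
  obtain ⟨n, u, hu⟩ := IsLocalization.Away.surj α ea
  obtain ⟨k, v, hv⟩ := IsLocalization.Away.surj β eb
  let Sa := Localization.Away α
  let Sb := Localization.Away β
  let Sab := Localization.Away (α * β)
  have hu0 : IsUnit (algebraMap R Sab α * algebraMap R Sab β) :=
    (map_mul (algebraMap R Sab) α β) ▸ IsLocalization.Away.algebraMap_isUnit (S := Sab) (α * β)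
  have hua : IsUnit (algebraMap R Sab α) := isUnit_of_mul_isUnit_left hu0
  have hub : IsUnit (algebraMap R Sab β) := isUnit_of_mul_isUnit_right hu0
  let φa : Sa →+* Sab := IsLocalization.Away.lift α hua
  let φb : Sb →+* Sab := IsLocalization.Away.lift β hub
  have hφa : φa.comp (algebraMap R Sa) = algebraMap R Sab := IsLocalization.Away.lift_comp α hua
  have hφb : φb.comp (algebraMap R Sb) = algebraMap R Sab := IsLocalization.Away.lift_comp β hub
  have heq : φa ea = φb eb := by
    refine basicOpen_injOn_isIdempotentElem (hea.map φa) (heb.map φb) (SetLike.coe_injective ?_)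
    rw [← comap_basicOpen φa ea, ← comap_basicOpen φb eb]
    simp only [TopologicalSpace.Opens.coe_comap, ← hWa, ← hWb, ← Set.preimage_comp]
    congr 1
    funext P
    apply PrimeSpectrum.ext
    change (P.asIdeal.comap φa).comap ((algebraMap R Sa).comp j) =
      (P.asIdeal.comap φb).comap ((algebraMap R Sb).comp j)
    rw [Ideal.comap_comap, Ideal.comap_comap, ← RingHom.comp_assoc, ← RingHom.comp_assoc, hφa, hφb]
  have hw : β ^ k * u = α ^ n * v := by
    have e1 : algebraMap R Sab (β ^ k * u) = algebraMap R Sab (α ^ n * v) := by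
      have hu' := congrArg φa hu
      have hv' := congrArg φb hv
      rw [map_mul, map_pow, ← RingHom.comp_apply φa, ← RingHom.comp_apply φa, hφa] at hu'
      rw [map_mul, map_pow, ← RingHom.comp_apply φb, ← RingHom.comp_apply φb, hφb] at hv'
      simp only [map_mul, map_pow]
      rw [← hu', ← hv', heq]
      ring
    obtain ⟨⟨_, l, rfl⟩, hl⟩ := (IsLocalization.eq_iff_exists (Submonoid.powers (α * β)) Sab).1 e1
    have h0 : α ^ l * (β ^ l * (β ^ k * u - α ^ n * v)) = 0 := by
      simp only [mul_pow] at hl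
      linear_combination hl
    have h1 := hreg' (a ^ l) (pow_ne_zero _ ha0) (β ^ l * (β ^ k * u - α ^ n * v))
      (by rw [map_pow, map_pow]; exact h0)
    exact sub_eq_zero.1 (hreg' (b ^ l) (pow_ne_zero _ hb0) _ (by rw [map_pow, map_pow]; exact h1))
  obtain ⟨r, hr⟩ : ∃ r, u = α ^ n * r := by
    have := exists_of_flat (C := A') (R := R) (a := algebraMap A A' a ^ n) (b := algebraMap A A' b ^ k)
      (hreg n k) (u := u) (v := v) (by simpa [α, β, g] using hw)
    simpa [α, g] using this
  have hear : ea = algebraMap R Sa r := by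
    refine ((IsLocalization.Away.algebraMap_isUnit (S := Sa) α).pow n).mul_left_injective ?_
    simp only
    rw [hu, hr, map_mul, map_pow, mul_comm]
  have hrr : IsIdempotentElem r := by
    have h : algebraMap R Sa (r * r) = algebraMap R Sa r := by rw [map_mul, ← hear]; exact hea
    obtain ⟨⟨_, l, rfl⟩, hl⟩ := (IsLocalization.eq_iff_exists (Submonoid.powers α) Sa).1 h
    refine sub_eq_zero.1 (hreg' (a ^ l) (pow_ne_zero _ ha0) _ ?_)
    simp only [map_pow]
    change α ^ l * _ = 0
    linear_combination hl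
  -- the primes off the zero locus of `a`
  have hmem : ∀ P : PrimeSpectrum R, α ∉ P.asIdeal → (comap j P ∈ W₁ ↔ r ∉ P.asIdeal) := by
    intro P hP
    obtain ⟨Q, rfl⟩ : P ∈ Set.range (comap (algebraMap R Sa)) := by
      rw [localization_away_comap_range Sa α]; exact hP
    have : Q ∈ comap ((algebraMap R Sa).comp j) ⁻¹' W₁ ↔ Q ∈ basicOpen ea := by rw [hWa]; rfl
    rw [hear] at this
    exact this
  -- the point over `x` is unique
  obtain ⟨x', hx'⟩ := hjsurj x
  have huniq : ∀ P : PrimeSpectrum R, comap j P = x → P = x' := by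
    intro P hP
    have hP' : P.asIdeal.comap j = x.asIdeal := congrArg PrimeSpectrum.asIdeal hP
    have hx'' : x'.asIdeal.comap j = x.asIdeal := congrArg PrimeSpectrum.asIdeal hx'
    obtain ⟨L, _, σ, τ, hστ⟩ := GeomUnib.exists_amalgam
      (Ideal.ResidueField.map x.asIdeal P.asIdeal j hP'.symm)
      (Ideal.ResidueField.map x.asIdeal x'.asIdeal j hx''.symm)
    let f₁ := σ.comp (algebraMap R P.asIdeal.ResidueField)
    let f₂ := τ.comp (algebraMap R x'.asIdeal.ResidueField)
    have hjj : f₁.comp j = f₂.comp j := RingHom.ext fun z => by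
      simpa [f₁, f₂] using RingHom.congr_fun hστ (algebraMap R₀ x.asIdeal.ResidueField z)
    have hk₁ : RingHom.ker f₁ = P.asIdeal := by
      rw [RingHom.ker_comp_of_injective _ σ.injective, Ideal.ker_algebraMap_residueField]
    have hk₂ : RingHom.ker f₂ = x'.asIdeal := by
      rw [RingHom.ker_comp_of_injective _ τ.injective, Ideal.ker_algebraMap_residueField]
    have hAA : (f₁.comp g).comp (algebraMap A A') = (f₁.comp j).comp (algebraMap A R₀) :=
      RingHom.ext fun c => by simp [g, hj]
    have : f₁ = f₂ := hext L f₁ f₂ hjj (hrad L (f₁.comp g) (f₂.comp g) (RingHom.ext fun c => by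
        have := RingHom.congr_fun hjj (algebraMap A R₀ c)
        simpa [g, hj] using this)
      (by rw [hAA, ← RingHom.comap_ker, ← RingHom.comap_ker, hk₁, hP', hx]))
    exact PrimeSpectrum.ext (by rw [← hk₁, this, hk₂])
  -- one side of the idempotent
  have main : ∀ (s : R) (V V' : Set (PrimeSpectrum R₀)), IsIdempotentElem s → IsOpen V' →
      Disjoint V V' → (∀ P : PrimeSpectrum R, α ∉ P.asIdeal → s ∉ P.asIdeal → comap j P ∈ V) →
      s ∉ x'.asIdeal → ∃ N, IsOpen N ∧ x ∈ N ∧ Disjoint N V' := by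
    intro s V V' hs hV' hVV hmemV hsx
    have hclopen : IsClopen (basicOpen s : Set (PrimeSpectrum R)) :=
      isClopen_iff.2 ⟨s, hs, rfl⟩
    let O := (basicOpen s : Set (PrimeSpectrum R))
    have hN : IsOpen (comap j '' Oᶜ)ᶜ := (hjclosed _ hclopen.2.isClosed_compl).isOpen_compl
    refine ⟨_, hN, ?_, Set.disjoint_left.2 fun p hpN hpV => ?_⟩
    · rintro ⟨P, hP, hPx⟩
      rw [huniq P hPx] at hP
      exact hP hsx
    obtain ⟨p₀, hp₀le, hp₀p, hp₀⟩ := Ideal.exists_ideal_le_liesOver_of_le p.asIdeal
      (p := (⊥ : Ideal A)) (q := p.asIdeal.comap (algebraMap A R₀)) bot_le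
    let q₀ : PrimeSpectrum R₀ := ⟨p₀, hp₀p⟩
    have hsp : q₀ ⤳ p := (le_iff_specializes q₀ p).1 hp₀le
    have hqN := hsp.mem_open hN hpN
    have hqV := hsp.mem_open hV' hpV
    obtain ⟨P, hP⟩ := hjsurj q₀
    have hsP : s ∉ P.asIdeal := fun hsP => hqN ⟨P, fun h => h hsP, hP⟩
    have haP : α ∉ P.asIdeal := fun haP => by
      have h1 : algebraMap A R₀ a ∈ p₀ := by
        have : j (algebraMap A R₀ a) ∈ P.asIdeal := by rw [hj]; exact haP
        exact (congrArg PrimeSpectrum.asIdeal hP).le this
      have h2 : a ∈ (⊥ : Ideal A) := (Ideal.mem_of_liesOver p₀ (⊥ : Ideal A) a).2 h1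
      exact ha0 h2
    exact hVV.le_bot ⟨hP ▸ hmemV P haP hsP, hqV⟩
  by_cases hrx : r ∈ x'.asIdeal
  · obtain ⟨N, hN, hxN, hNd⟩ := main (1 - r) W₂ W₁ hrr.one_sub h₁ hd.symm (fun P haP h1r => by
      have hrP : r ∈ P.asIdeal := by
        refine (P.isPrime.mem_or_mem (x := r) (y := 1 - r) ?_).resolve_right h1r
        rw [hrr.mul_one_sub_self]; exact zero_mem _
      refine (hcov _ fun he => haP ?_).resolve_left fun h => (hmem P haP).1 h hrP
      have : j (algebraMap A R₀ a) ∈ P.asIdeal := he.ge ha
      rwa [hj] at this) (fun h => x'.isPrime.ne_top ((Ideal.eq_top_iff_one _).2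
        (by simpa using add_mem h hrx)))
    exact ⟨N, hN, hxN, Or.inl hNd⟩
  · obtain ⟨N, hN, hxN, hNd⟩ := main r W₁ W₂ hrr h₂ hd (fun P haP hrP => (hmem P haP).2 hrP) hrx
    exact ⟨N, hN, hxN, Or.inr hNd⟩

end Groth.Agent.ConnCompl
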