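import Groth.Agent.ConnCompl.Normal
import Groth.Agent.ConnCompl.Local

/-!
# The affine lemma over a geometrically unibranch base
-/

set_option autoImplicit false

universe u

open PrimeSpectrum TensorProduct IsLocalRing

namespace Groth.Agent.ConnCompl

/-- A ring generated by an integral extension of the base and by `R₀` is integral over `R₀`. -/
theorem isIntegral_of_generated {A A' R₀ R : Type u} [CommRing A] [CommRing A'] [Algebra A A']
    [Algebra.IsIntegral A A'] [CommRing R₀] [Algebra A R₀] [CommRing R] (j : R₀ →+* R) (g : A' →+* R)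
    (hjg : ∀ c : A, j (algebraMap A R₀ c) = g (algebraMap A A' c))
    (hgen : ∀ P : R → Prop, P 0 → (∀ p q, P p → P q → P (p + q)) → (∀ c r, P (g c * j r)) → ∀ z, P z) :
    j.IsIntegral := by
  algebraize [j]
  intro z
  refine hgen (fun z => IsIntegral R₀ z) isIntegral_zero (fun p q => IsIntegral.add) (fun c r => ?_) z
  refine IsIntegral.mul ?_ isIntegral_algebraMap
  exact (Algebra.IsIntegral.isIntegral (R := A) c).map_of_comp_eq (algebraMap A R₀) g (RingHom.ext hjg)

/-- The affine lemma with an abstract integral extension. -/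
theorem exists_open_disjoint_tensor {A A' R₀ : Type u} [CommRing A] [IsLocalRing A] [IsDomain A]
    [CommRing A'] [IsDomain A'] [Algebra A A'] [Algebra.IsIntegral A A'] [CommRing R₀] [Algebra A R₀]
    [Module.Flat A R₀] (hrad : GeomUnib.RadicialAt A' (maximalIdeal A))
    (hinj : Function.Injective (algebraMap A A'))
    {a b : A} (ha : a ∈ maximalIdeal A) (hb : b ∈ maximalIdeal A) (ha0 : a ≠ 0) (hb0 : b ≠ 0)
    (hreg : ∀ (n k : ℕ) (x y : A'), algebraMap A A' b ^ k * x = algebraMap A A' a ^ n * y →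
      ∃ z, x = algebraMap A A' a ^ n * z)
    (W₁ W₂ : Set (PrimeSpectrum R₀)) (h₁ : IsOpen W₁) (h₂ : IsOpen W₂) (hd : Disjoint W₁ W₂)
    (hcov : ∀ p : PrimeSpectrum R₀, p.asIdeal.comap (algebraMap A R₀) ≠ maximalIdeal A → p ∈ W₁ ∪ W₂)
    (x : PrimeSpectrum R₀) (hx : x.asIdeal.comap (algebraMap A R₀) = maximalIdeal A) :
    ∃ N : Set (PrimeSpectrum R₀), IsOpen N ∧ x ∈ N ∧ (Disjoint N W₁ ∨ Disjoint N W₂) := by
  let R := CommRingCat.of (A' ⊗[A] R₀)
  let g : A' →+* R := algebraMap A' (A' ⊗[A] R₀)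
  letI : Algebra A' R := (inferInstance : Algebra A' (A' ⊗[A] R₀))
  haveI : Module.Flat A' R := (inferInstance : Module.Flat A' (A' ⊗[A] R₀))
  let j : R₀ →+* R := Algebra.TensorProduct.includeRight.toRingHom
  have hjA : ∀ c : A, j (algebraMap A R₀ c) = g (algebraMap A A' c) := fun c =>
    (Algebra.TensorProduct.tmul_one_eq_one_tmul c).symm
  have hgen : ∀ P : R → Prop, P 0 → (∀ p q, P p → P q → P (p + q)) →
      (∀ c r, P (g c * j r)) → ∀ z, P z := fun P h0 hadd hmul z => by
    induction z using TensorProduct.induction_on with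
    | zero => exact h0
    | add p q hp hq => exact hadd p q hp hq
    | tmul c r =>
      have : g c * j r = c ⊗ₜ[A] r := by
        exact (Algebra.TensorProduct.tmul_mul_tmul c 1 1 r).trans (by rw [mul_one, one_mul])
      exact this ▸ hmul c r
  have hint : j.IsIntegral := isIntegral_of_generated j g hjA hgen
  have hjinj : Function.Injective j := Algebra.TensorProduct.includeRight_injective hinj
  have hsurj : Function.Surjective (comap j) := fun p => by
    algebraize [j]
    obtain ⟨Q, -, hQ, hQp⟩ := Ideal.exists_ideal_over_prime_of_isIntegral (R := R₀) p.asIdeal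
      (⊥ : Ideal R)
      (by rw [← RingHom.ker_eq_comap_bot]; exact ((RingHom.injective_iff_ker_eq_bot j).1 hjinj).le.trans bot_le)
    exact ⟨⟨Q, hQ⟩, PrimeSpectrum.ext hQp⟩
  refine exists_open_disjoint (A' := A') (R := R) hrad hinj j (fun c => hjA c) (isClosedMap_comap_of_isIntegral j hint) hsurj
    (fun L _ f g h h' => ?_) ha hb ha0 hb0 hreg W₁ W₂ h₁ h₂ hd hcov x hx
  refine RingHom.ext (hgen (fun z => f z = g z) (by simp) (fun p q hp hq => by simp only [map_add, hp, hq])
    fun c r => ?_)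
  rw [map_mul, map_mul]
  exact congrArg₂ (· * ·) (RingHom.congr_fun h' c) (RingHom.congr_fun h r)

theorem exists_open_disjoint_of_isGeomUnibranch (A R₀ : Type u) [CommRing A] [IsNoetherianRing A]
    [IsLocalRing A] [IsDomain A] (hA : CAlg2.IsGeomUnibranch A) (hdim : 2 ≤ ringKrullDim A)
    [CommRing R₀] [Algebra A R₀] [Module.Flat A R₀]
    (W₁ W₂ : Set (PrimeSpectrum R₀)) (h₁ : IsOpen W₁) (h₂ : IsOpen W₂) (hd : Disjoint W₁ W₂)
    (hcov : ∀ p : PrimeSpectrum R₀, p.asIdeal.comap (algebraMap A R₀) ≠ maximalIdeal A → p ∈ W₁ ∪ W₂)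
    (x : PrimeSpectrum R₀) (hx : x.asIdeal.comap (algebraMap A R₀) = maximalIdeal A) :
    ∃ N : Set (PrimeSpectrum R₀), IsOpen N ∧ x ∈ N ∧ (Disjoint N W₁ ∨ Disjoint N W₂) := by
  let K := FractionRing A
  let A' := integralClosure A K
  have hinj : Function.Injective (algebraMap A A') := fun x y h =>
    IsFractionRing.injective A K (congrArg Subtype.val h)
  have hrad : GeomUnib.RadicialAt A' (maximalIdeal A) :=
    GeomUnib.radicialAt_of_isGeomUnibranch (K := K) hA (RingHom.id A) Function.surjective_id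
      (by simp [RingHom.ker, Ideal.comap_id]) A'
  obtain ⟨a, b, ha, hb, ha0, hb0, hreg⟩ := exists_pair A K hdim hrad.uniqueAt
  exact exists_open_disjoint_tensor hrad hinj ha hb ha0 hb0 hreg W₁ W₂ h₁ h₂ hd hcov x hx

end Groth.Agent.ConnCompl
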