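import Groth.Agent.MoriNagata.Essential
import Groth.Agent.GeomUnib.Radical

/-!
# A regular pair on the normalization of a Noetherian local domain of dimension `≥ 2`
-/

set_option autoImplicit false

universe u

open IsLocalRing

namespace Groth.Agent.ConnCompl

variable (A : Type u) [CommRing A] [IsDomain A] [IsNoetherianRing A] [IsLocalRing A]
variable (K : Type u) [Field K] [Algebra A K] [IsFractionRing A K]

/-- In dimension `≥ 2` there is a prime strictly between `⊥` and the maximal ideal. -/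
theorem exists_between (hdim : 2 ≤ ringKrullDim A) :
    ∃ q : Ideal A, q.IsPrime ∧ q ≠ ⊥ ∧ q < maximalIdeal A := by
  by_contra hcon
  have h1 : (maximalIdeal A).height ≤ ((1 : ℕ) : ℕ∞) := by
    refine Ideal.height_le_iff.2 fun q hq hlt => ?_
    have hq0 : q = ⊥ := by
      by_contra h0
      exact hcon ⟨q, hq, h0, hlt⟩
    subst hq0
    simp
  rw [← IsLocalRing.maximalIdeal_height_eq_ringKrullDim] at hdim
  have h2 : (2 : ℕ∞) ≤ (maximalIdeal A).height := WithBot.coe_le_coe.1 hdim
  have h3 : (2 : ℕ∞) ≤ ((1 : ℕ) : ℕ∞) := h2.trans h1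
  exact absurd h3 (by norm_num)

/-- If the integral closure has only one prime over the closed point and `dim A ≥ 2`, some pair
`a, b` of elements of the maximal ideal is a regular sequence, in all powers, on the integral
closure. -/
theorem exists_pair (hdim : 2 ≤ ringKrullDim A)
    (hu : GeomUnib.UniqueAt (integralClosure A K) (maximalIdeal A)) :
    ∃ a b : A, a ∈ maximalIdeal A ∧ b ∈ maximalIdeal A ∧ a ≠ 0 ∧ b ≠ 0 ∧
      ∀ (n k : ℕ) (x y : integralClosure A K),
        algebraMap A (integralClosure A K) b ^ k * x = algebraMap A (integralClosure A K) a ^ n * y →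
        ∃ z, x = algebraMap A (integralClosure A K) a ^ n * z := by
  classical
  obtain ⟨q₀, hq₀, hq₀0, hq₀m⟩ := exists_between A hdim
  obtain ⟨a, ha₀, ha0⟩ := Submodule.exists_mem_ne_zero_of_ne_bot hq₀0
  have ha : a ∈ maximalIdeal A := hq₀m.le ha₀
  let ι := algebraMap A (integralClosure A K)
  obtain ⟨Bad, hBad, hBadp, hBad1, -⟩ := MoriNagata.exists_bad_finite A K
  have hfin : (Bad ∪ (Ideal.span {a}).minimalPrimes ∪ {⊥}).Finite :=
    (hBad.union (Ideal.span {a}).finite_minimalPrimes_of_isNoetherianRing).union (Set.finite_singleton _)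
  let S : Finset (Ideal A) := hfin.toFinset.filter fun p => p ≠ maximalIdeal A
  have hSp : ∀ p ∈ S, p.IsPrime := by
    intro p hp
    simp only [S, Finset.mem_filter, Set.Finite.mem_toFinset, Set.mem_union, Set.mem_singleton_iff] at hp
    rcases hp.1 with (h | h) | h
    · exact hBadp p h
    · exact h.isPrime
    · exact h ▸ Ideal.isPrime_bot
  have hm0 : (⊥ : Ideal A) ≠ maximalIdeal A := (lt_of_le_of_lt bot_le hq₀m).ne
  have hcov : ¬ ((maximalIdeal A : Set A) ⊆ ⋃ p ∈ (↑S : Set (Ideal A)), ((fun i : Ideal A => i) p : Set A)) := by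
    rw [Ideal.subset_union_prime (f := fun i : Ideal A => i) ⊥ ⊥ fun p hp _ _ => hSp p hp]
    rintro ⟨p, hp, hle⟩
    have hpm : p ≠ maximalIdeal A := (Finset.mem_filter.1 hp).2
    exact hpm ((IsLocalRing.maximalIdeal.isMaximal A).eq_of_le (hSp p hp).ne_top hle).symm
  obtain ⟨b, hb, hbS⟩ := Set.not_subset.1 hcov
  have hbS' : ∀ p ∈ S, b ∉ p := fun p hp hbp => hbS (Set.mem_biUnion hp hbp)
  have hb0 : b ≠ 0 := fun h => hbS' ⊥ (Finset.mem_filter.2 ⟨hfin.mem_toFinset.2 (Or.inr rfl), hm0⟩)
    (by simp [h])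
  have hinj : Function.Injective ι := fun x y h =>
    IsFractionRing.injective A K (congrArg Subtype.val h)
  refine ⟨a, b, ha, hb, ha0, hb0, fun n k x y hxy => ?_⟩
  have hιa : ι a ≠ 0 := (map_ne_zero_iff ι hinj).2 ha0
  have key : ∀ (P : Ideal (integralClosure A K)) [P.IsPrime], P.height = 1 → ι a ∈ P → ι b ∉ P := by
    intro P _ hP haP hbP
    let p := P.comap ι
    have hpm : p ≠ maximalIdeal A := by
      intro hpm
      obtain ⟨P₁, -, hP₁, hP₁q⟩ := Ideal.exists_ideal_over_prime_of_isIntegral q₀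
        (⊥ : Ideal (integralClosure A K))
        (by rw [← RingHom.ker_eq_comap_bot, (RingHom.injective_iff_ker_eq_bot _).1 hinj]; exact bot_le)
      obtain ⟨P₂, hP₂, hP₂p, hP₂m⟩ := Ideal.exists_ideal_over_prime_of_isIntegral (maximalIdeal A)
        P₁ (hP₁q.trans_le hq₀m.le)
      obtain rfl : P₂ = P := hu _ _ hP₂p inferInstance hP₂m hpm
      have hlt : P₁ < P₂ := lt_of_le_of_ne hP₂ fun h => hq₀m.ne (by rw [← hP₁q, h, hP₂m])
      have : P₂.FiniteHeight := ⟨Or.inr (by rw [hP]; exact ENat.one_ne_top)⟩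
      have h0 : P₁.height = 0 := by
        have := Ideal.height_strict_mono_of_isPrime_of_isPrime hlt
        rw [hP] at this
        exact ENat.lt_one_iff_eq_zero.1 this
      have hP₁0 : P₁ = ⊥ := Ideal.height_eq_zero_iff_eq_bot.1 h0
      apply hq₀0
      rw [← hP₁q, hP₁0, ← RingHom.ker_eq_comap_bot, (RingHom.injective_iff_ker_eq_bot _).1 hinj]
    have hpS : ∀ h : p ∈ Bad ∪ (Ideal.span {a}).minimalPrimes ∪ {⊥}, False := fun h =>
      hbS' p (Finset.mem_filter.2 ⟨hfin.mem_toFinset.2 h, hpm⟩) hbP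
    by_cases hbad : p ∈ Bad
    · exact hpS (Or.inl (Or.inl hbad))
    have h1 : p.height ≤ 1 := hBad1 P hP hbad
    refine hpS (Or.inl (Or.inr ?_))
    have hpa : Ideal.span {a} ≤ p := (Ideal.span_singleton_le_iff_mem _).2 haP
    refine ⟨⟨inferInstance, hpa⟩, fun r ⟨hr, hra⟩ hrp => ?_⟩
    by_contra hne
    have hlt : r < p := lt_of_le_of_ne hrp fun h => hne h.ge
    have := (Ideal.height_le_iff (p := p) (n := 1)).1 h1 r hr hlt
    have hr0 : r.height = 0 := ENat.lt_one_iff_eq_zero.1 this
    rw [Ideal.height_eq_zero_iff_eq_bot] at hr0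
    have : a ∈ r := hra (Ideal.mem_span_singleton_self a)
    rw [show r = ⊥ from hr0] at this
    exact ha0 this
  let cA : K := algebraMap A K a ^ n
  have hcA : cA ≠ 0 := pow_ne_zero _ ((map_ne_zero_iff _ (IsFractionRing.injective A K)).2 ha0)
  have hz : IsIntegral A ((x : K) / cA) := by
    refine MoriNagata.mem_of_forall_height_one A K _ fun P _ hP => ?_
    by_cases haP : ι a ∈ P
    · refine ⟨ι b ^ k, fun h => key P hP haP (Ideal.IsPrime.mem_of_pow_mem inferInstance k h), ?_⟩
      have e := congrArg Subtype.val hxy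
      simp only [Subalgebra.coe_mul, Subalgebra.coe_pow, Subalgebra.coe_algebraMap] at e
      have : ((ι b ^ k : integralClosure A K) : K) * ((x : K) / cA) = (y : K) := by
        simp only [Subalgebra.coe_pow, ι, Subalgebra.coe_algebraMap]
        rw [mul_div_assoc', e, mul_div_cancel_left₀ _ hcA]
      rw [this]
      exact y.2
    · refine ⟨ι a ^ n, fun h => haP (Ideal.IsPrime.mem_of_pow_mem inferInstance n h), ?_⟩
      have : ((ι a ^ n : integralClosure A K) : K) * ((x : K) / cA) = (x : K) := by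
        simp only [Subalgebra.coe_pow, ι, Subalgebra.coe_algebraMap]
        exact mul_div_cancel₀ _ hcA
      rw [this]
      exact x.2
  refine ⟨⟨_, hz⟩, Subtype.ext ?_⟩
  simp only [Subalgebra.coe_mul, Subalgebra.coe_pow, Subalgebra.coe_algebraMap]
  exact (mul_div_cancel₀ _ hcA).symm

end Groth.Agent.ConnCompl
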